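import Groth.Agent.DiagRig.TorusBasic
import Groth.Agent.DiagRig.WeilLocus.Basic
import Groth.Prelude.Def_SGA3x

/-! Points of a group of multiplicative type killed by all torsion characters. -/

set_option autoImplicit false

universe u

open CategoryTheory MonoidalCategory CartesianMonoidalCategory MonObj GrpObj AlgebraicGeometry Limits
open Groth.Agent.RedPts Groth.Agent.DiagRig

noncomputable section

namespace Groth.Agent.MaxTorMT

set_option backward.isDefEq.respectTransparency.types false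

/-- A finitely generated group has a torsion free quotient with a section. -/
theorem exists_split (M : Type) [AddCommGroup M] (hM : AddGroup.FG M) :
    ∃ (r : ℕ) (π : M →+ (Fin r → ℤ)) (s : (Fin r → ℤ) →+ M),
      (∀ x, π (s x) = x) ∧ ∀ m, π m = 0 → IsOfFinAddOrder m := by
  have : Module.Finite ℤ M := Module.Finite.iff_addGroup_fg.mpr hM
  let Q := M ⧸ Submodule.torsion ℤ M
  have : Module.Free ℤ Q := inferInstance
  let e : Q ≃ₗ[ℤ] (Fin (Module.finrank ℤ Q) → ℤ) := (Module.finBasis ℤ Q).equivFun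
  let π : M →ₗ[ℤ] (Fin (Module.finrank ℤ Q) → ℤ) := e.toLinearMap ∘ₗ (Submodule.torsion ℤ M).mkQ
  have hπ : Function.Surjective π := e.surjective.comp (Submodule.mkQ_surjective _)
  obtain ⟨s, hs⟩ := Module.projective_lifting_property π LinearMap.id hπ
  refine ⟨_, π.toAddMonoidHom, s.toAddMonoidHom, fun x => congr($hs x), fun m hm => ?_⟩
  have hq : (Submodule.torsion ℤ M).mkQ m = 0 := e.injective (hm.trans (map_zero e).symm)
  obtain ⟨⟨a, ha⟩, ha'⟩ := (Submodule.Quotient.mk_eq_zero _).mp hq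
  rw [isOfFinAddOrder_iff_zsmul_eq_zero]
  exact ⟨a, nonZeroDivisors.ne_zero ha, ha'⟩

/-- A global section which becomes one along a flat family of points is one. -/
theorem eq_one_of_family {Y : Scheme.{u}} (t : Γ(Y, ⊤))
    (h : ∀ p : Y, ∃ (Y' : Scheme.{u}) (m : Y' ⟶ Y), Flat m ∧ (∃ q, m q = p) ∧ m.appTop t = 1) : t = 1 := by
  refine TopCat.Presheaf.section_ext Y.sheaf ⊤ t 1 fun p hp => ?_
  obtain ⟨Y', m, hm, ⟨q, rfl⟩, ht⟩ := h p
  have hinj : Function.Injective (m.stalkMap q).hom := by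
    algebraize [(m.stalkMap q).hom]
    have : Module.FaithfullyFlat (Y.presheaf.stalk (m q)) (Y'.presheaf.stalk q) :=
      @Module.FaithfullyFlat.of_flat_of_isLocalHom _ _ _ _ _ _ _ (Flat.stalkMap m q) (m.toLRSHom.prop q)
    exact ‹RingHom.FaithfullyFlat _›.injective
  apply hinj
  have e1 := Scheme.Hom.germ_stalkMap_apply m ⊤ q hp t
  have e2 := Scheme.Hom.germ_stalkMap_apply m ⊤ q hp (1 : Γ(Y, ⊤))
  refine e1.trans (Eq.trans ?_ e2.symm)
  rw [show (m.app ⊤).hom t = (1 : Γ(Y', m ⁻¹ᵁ ⊤)) from ht, map_one (m.app ⊤).hom]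

theorem bcTr_pow {S U : Scheme.{u}} (k : U ⟶ S) {G : Over S} [GrpObj G] {Y : Over U} (y : Y ⟶ Red.bc k G)
    (n : ℕ) : bcTr k (y ^ n) = bcTr k y ^ n := by
  induction n with
  | zero => rw [pow_zero, pow_zero, bcTr_one]
  | succ n ih => rw [pow_succ, pow_succ, bcTr_mul, ih]

theorem pow_comp {S : Scheme.{u}} {X G K : Over S} [GrpObj G] [GrpObj K] (f : G ⟶ K) [IsMonHom f] (x : X ⟶ G)
    (n : ℕ) : (x ^ n) ≫ f = (x ≫ f) ^ n := by
  induction n with
  | zero => rw [pow_zero, pow_zero, MonObj.one_comp]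
  | succ n ih => rw [pow_succ, pow_succ, MonObj.mul_comp, ih]

theorem dFn_pow {U : Scheme.{u}} {M : Type} [AddCommGroup M] {Y : Over U} (y : Y ⟶ Red.DS U M) (n : ℕ) (m : M) :
    dFn (y ^ n) m = dFn y (n • m) := by
  induction n with
  | zero =>
    rw [pow_zero, zero_smul, d_zero]
    have h := (congrArg (fun w => dFn w m) (_root_.mul_one (1 : Y ⟶ Red.DS U M))).symm.trans
      (d_mul (1 : Y ⟶ Red.DS U M) 1 m)
    exact (d_isUnit _ m).mul_eq_left.mp h.symm
  | succ n ih => rw [pow_succ, d_mul, ih, succ_nsmul, d_add]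

variable {S : Scheme.{u}} {H : Over S} [GrpObj H]

/-- The isomorphism underlying a chart. -/
def eh {U : Scheme.{u}} {k : U ⟶ S} {M : Type} [AddCommGroup M]
    (e : Grp.mk (Red.bc k H) ≅ Grp.mk (Red.DS U M)) : Red.bc k H ≅ Red.DS U M := (Grp.forget _).mapIso e

instance {U : Scheme.{u}} {k : U ⟶ S} {M : Type} [AddCommGroup M]
    (e : Grp.mk (Red.bc k H) ≅ Grp.mk (Red.DS U M)) : IsMonHom (eh e).hom := e.hom.hom.isMonHom_hom

instance {U : Scheme.{u}} {k : U ⟶ S} {M : Type} [AddCommGroup M]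
    (e : Grp.mk (Red.bc k H) ≅ Grp.mk (Red.DS U M)) : IsMonHom (eh e).inv := e.inv.hom.isMonHom_hom

theorem eh_mul {U : Scheme.{u}} {k : U ⟶ S} {M : Type} [AddCommGroup M]
    (e : Grp.mk (Red.bc k H) ≅ Grp.mk (Red.DS U M)) {Y : Over U} (x y : Y ⟶ Red.bc k H) :
    (x * y) ≫ (eh e).hom = (x ≫ (eh e).hom) * (y ≫ (eh e).hom) :=
  grpHom_mul e.hom x y

theorem eh_pow {U : Scheme.{u}} {k : U ⟶ S} {M : Type} [AddCommGroup M]
    (e : Grp.mk (Red.bc k H) ≅ Grp.mk (Red.DS U M)) {Y : Over U} (x : Y ⟶ Red.bc k H) (n : ℕ) :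
    (x ^ n) ≫ (eh e).hom = (x ≫ (eh e).hom) ^ n :=
  @pow_comp _ _ _ _ _ _ (eh e).hom e.hom.hom.isMonHom_hom x n

theorem eh_inv_pow {U : Scheme.{u}} {k : U ⟶ S} {M : Type} [AddCommGroup M]
    (e : Grp.mk (Red.bc k H) ≅ Grp.mk (Red.DS U M)) {Y : Over U} (x : Y ⟶ Red.DS U M) (n : ℕ) :
    (x ^ n) ≫ (eh e).inv = (x ≫ (eh e).inv) ^ n :=
  @pow_comp _ _ _ _ _ _ (eh e).inv e.inv.hom.isMonHom_hom x n

/-- A point of a chart killed by the torsion characters. -/
def Kills {U : Scheme.{u}} {k : U ⟶ S} {M : Type} [AddCommGroup M]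
    (e : Grp.mk (Red.bc k H) ≅ Grp.mk (Red.DS U M)) {Y : Over U} (z : Y ⟶ Red.bc k H) : Prop :=
  ∀ m : M, IsOfFinAddOrder m → dFn (z ≫ (eh e).hom) m = 1

/-- A point killed by the torsion characters in every chart. -/
def Good ⦃X : Scheme.{u}⦄ (a : X ⟶ H.left) : Prop :=
  ∀ (U : Scheme.{u}) (k : U ⟶ S) (M : Type) (_ : AddCommGroup M), AddGroup.FG M →
    ∀ (e : Grp.mk (Red.bc k H) ≅ Grp.mk (Red.DS U M)) (Y : Over U) (z : Y ⟶ Red.bc k H) (c : Y.left ⟶ X),
      (bcTr k z).left = c ≫ a → Kills e z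

/-- The point has an `n`-th root on a flat cover. -/
def Roots (G : Over S) [GrpObj G] {X : Scheme.{u}} (a : X ⟶ G.left) (n : ℕ) : Prop :=
  ∃ (Y : Over S) (y : Y ⟶ G) (c : Y.left ⟶ X), Flat c ∧ Surjective c ∧ (y ^ n).left = c ≫ a

theorem Good.comp {X X' : Scheme.{u}} {a : X ⟶ H.left} (h : Good a) (g : X' ⟶ X) : Good (g ≫ a) :=
  fun U k M i hM e Y z c hz => h U k M i hM e Y z (c ≫ g) (hz.trans (Category.assoc _ _ _).symm)

theorem good_of_family {X : Scheme.{u}} (a : X ⟶ H.left)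
    (h : ∀ p : X, ∃ (X' : Scheme.{u}) (m : X' ⟶ X), Flat m ∧ (∃ q, m q = p) ∧ Good (m ≫ a)) : Good a := by
  intro U k M _ hM e Y z c hz mu hmu
  refine eq_one_of_family _ fun p => ?_
  obtain ⟨X', m, hm, ⟨q, hq⟩, hg⟩ := h (c p)
  obtain ⟨w, hw, -⟩ := Scheme.Pullback.exists_preimage_pullback (f := c) (g := m) p q hq.symm
  let d : Over.mk (pullback.fst c m ≫ Y.hom) ⟶ Y := Over.homMk (pullback.fst c m)
  refine ⟨_, pullback.fst c m, inferInstance, ⟨w, hw⟩, ?_⟩
  have := hg U k M _ hM e _ (d ≫ z) (pullback.snd c m) (by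
    rw [bcTr_comp, CategoryTheory.Over.comp_left, hz, ← Category.assoc, ← Category.assoc]
    exact congrArg (· ≫ a) pullback.condition) mu hmu
  rw [Category.assoc, d_comp] at this
  exact this

section Chart

variable {U : Scheme.{u}} {k : U ⟶ S} {M : Type} [AddCommGroup M]
  (e : Grp.mk (Red.bc k H) ≅ Grp.mk (Red.DS U M))

theorem Kills.comp {Y Y' : Over U} (h : Y' ⟶ Y) {z : Y ⟶ Red.bc k H} (hz : Kills e z) : Kills e (h ≫ z) :=
  fun m hm => by rw [Category.assoc, d_comp, hz m hm, map_one]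

theorem roots_of_kills (hM : AddGroup.FG M) {Y : Over U} (z : Y ⟶ Red.bc k H) (hz : Kills e z) {n : ℕ}
    (hn : 0 < n) : Roots H (bcTr k z).left n := by
  obtain ⟨r, π, s, hs, hk⟩ := exists_split M hM
  let nF : (Fin r → ℤ) →+ (Fin r → ℤ) := nsmulAddMonoidHom n
  obtain ⟨xF, hxF⟩ := d_surjective (S := U) (X := Y)
    { toFun := fun x : Multiplicative (Fin r → ℤ) => dFn (z ≫ (eh e).hom) (s x.toAdd)
      map_one' := by simp [d_zero]
      map_mul' := fun a b => by simp [d_add] }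
  have hinj : Function.Injective nF := fun a b hab => funext fun i => by
    have h := congrFun hab i
    simp only [nF, nsmulAddMonoidHom_apply, Pi.smul_apply, nsmul_eq_mul] at h
    exact mul_left_cancel₀ (by exact_mod_cast hn.ne') h
  obtain ⟨hfl, hsu⟩ := DSHom.flat_surjective_DSmap (U := U) nF hinj
  let P := pullback xF.left (Red.DSmap U nF).left
  let c : P ⟶ Y.left := pullback.fst _ _
  let Y' : Over U := Over.mk (c ≫ Y.hom)
  let yF : Y' ⟶ Red.DS U (Fin r → ℤ) := Over.homMk (pullback.snd _ _) (by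
    show pullback.snd _ _ ≫ _ = c ≫ Y.hom
    rw [← Over.w (Red.DSmap U nF), ← pullback.condition_assoc, Over.w])
  let d : Y' ⟶ Y := Over.homMk c
  have hyF : yF ≫ Red.DSmap U nF = d ≫ xF := Over.OverMorphism.ext pullback.condition.symm
  let y : Y' ⟶ Red.bc k H := (yF ≫ Red.DSmap U π) ≫ (eh e).inv
  have hy : y ^ n = d ≫ z := by
    have key : (yF ≫ Red.DSmap U π) ^ n = d ≫ z ≫ (eh e).hom := d_ext fun m => by
      have h1 : dFn (yF ≫ Red.DSmap U nF) (π m) = dFn (d ≫ xF) (π m) := by rw [hyF]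
      rw [DSmap_fn, d_comp, hxF] at h1
      rw [dFn_pow, DSmap_fn, map_nsmul]
      refine Eq.trans (h1.trans ?_) (d_comp d (z ≫ (eh e).hom) m).symm
      refine congrArg d.left.appTop ?_
      show dFn (z ≫ (eh e).hom) (s (π m)) = dFn (z ≫ (eh e).hom) m
      have h2 := d_add (z ≫ (eh e).hom) (s (π m)) (m - s (π m))
      rw [add_sub_cancel, hz (m - s (π m)) (hk (m - s (π m)) (by rw [map_sub, hs, sub_self])), _root_.mul_one] at h2
      exact h2.symm
    rw [← eh_inv_pow, key, Category.assoc, Category.assoc, Iso.hom_inv_id, Category.comp_id]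
  refine ⟨(Over.map k).obj Y', bcTr k y, c, inferInstance, inferInstance, ?_⟩
  rw [← bcTr_pow, hy, bcTr_comp]
  rfl

theorem kills_of_roots {Y : Over U} (z : Y ⟶ Red.bc k H)
    (h : ∀ n : ℕ, 0 < n → Roots H (bcTr k z).left n) : Kills e z := by
  intro m hm
  obtain ⟨n, hn, hnm⟩ := isOfFinAddOrder_iff_nsmul_eq_zero.mp hm
  obtain ⟨Y₀, y, c, hc, hcs, hyc⟩ := h n hn
  let Y' : Over U := Over.mk (c ≫ Y.hom)
  let d : Y' ⟶ Y := Over.homMk c
  let i : (Over.map k).obj Y' ⟶ Y₀ := Over.homMk (𝟙 _) (by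
    show 𝟙 _ ≫ Y₀.hom = (c ≫ Y.hom) ≫ k
    rw [Category.id_comp, ← Over.w (y ^ n), hyc, Category.assoc, Over.w, Category.assoc]
    rfl)
  have hpow : bcUn k (i ≫ y) ^ n = d ≫ z := by
    apply bcTr_injective k
    rw [bcTr_pow, bcTr_bcUn, ← MonObj.comp_pow, bcTr_comp]
    refine Over.OverMorphism.ext ?_
    show 𝟙 _ ≫ (y ^ n).left = c ≫ (bcTr k z).left
    rw [Category.id_comp, hyc]
  refine eq_one_of_family _ fun p => ?_
  obtain ⟨q, hq⟩ := c.surjective p
  refine ⟨_, c, hc, ⟨q, hq⟩, ?_⟩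
  show d.left.appTop _ = 1
  rw [← d_comp, ← Category.assoc, ← hpow, eh_pow, dFn_pow, hnm, d_zero]

end Chart

theorem good_of_roots {X : Scheme.{u}} (a : X ⟶ H.left) (h : ∀ n : ℕ, 0 < n → Roots H a n) : Good a := by
  intro U k M _ hM e Y z c hz
  refine kills_of_roots e z fun n hn => ?_
  obtain ⟨Y₀, y, c₀, hc, hcs, hy⟩ := h n hn
  let i : Over.mk (pullback.snd c c₀ ≫ Y₀.hom) ⟶ Y₀ := Over.homMk (pullback.snd c c₀)
  refine ⟨_, i ≫ y, pullback.fst c c₀, inferInstance, inferInstance, ?_⟩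
  rw [← MonObj.comp_pow, CategoryTheory.Over.comp_left, hy, hz, ← Category.assoc, ← Category.assoc]
  exact congrArg (· ≫ a) pullback.condition.symm

theorem good_of_kills {U : Scheme.{u}} {k : U ⟶ S} {M : Type} [AddCommGroup M]
    (e : Grp.mk (Red.bc k H) ≅ Grp.mk (Red.DS U M)) (hM : AddGroup.FG M) {Y : Over U} {z : Y ⟶ Red.bc k H}
    (hz : Kills e z) : Good (bcTr k z).left :=
  good_of_roots _ fun _ hn => roots_of_kills e hM z hz hn

theorem Good.mul {X : Over S} {x y : X ⟶ H} (hx : Good x.left) (hy : Good y.left) : Good (x * y).left := by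
  intro U k M _ hM e Y z c hz m hm
  let c' : (Over.map k).obj Y ⟶ X := Over.homMk c (by
    rw [← Over.w (x * y), ← Category.assoc, ← hz, Over.w])
  have hc : bcTr k z = c' ≫ (x * y) := Over.OverMorphism.ext hz
  have hz' : z = bcUn k (c' ≫ x) * bcUn k (c' ≫ y) := by
    rw [← bcUn_mul, ← MonObj.comp_mul, ← hc, bcUn_bcTr]
  rw [hz', eh_mul, d_mul]
  have h1 := hx U k M _ hM e Y (bcUn k (c' ≫ x)) c (by rw [bcTr_bcUn]; rfl) m hm
  have h2 := hy U k M _ hM e Y (bcUn k (c' ≫ y)) c (by rw [bcTr_bcUn]; rfl) m hm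
  rw [h1, h2, _root_.mul_one]

theorem good_one {X : Over S} : Good (1 : X ⟶ H).left := by
  refine good_of_roots _ fun n _ => ⟨X, 1, 𝟙 _, inferInstance, inferInstance, ?_⟩
  rw [one_pow, Category.id_comp]

theorem Good.inv {X : Over S} {x : X ⟶ H} (hx : Good x.left) : Good x⁻¹.left := by
  intro U k M _ hM e Y z c hz m hm
  let c' : (Over.map k).obj Y ⟶ X := Over.homMk c (by rw [← Over.w x⁻¹, ← Category.assoc, ← hz, Over.w])
  have hc : bcTr k z = c' ≫ x⁻¹ := Over.OverMorphism.ext hz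
  have hx' := hx U k M _ hM e Y (bcUn k (c' ≫ x)) c (by rw [bcTr_bcUn]; rfl) m hm
  have h1 : z * bcUn k (c' ≫ x) = 1 := by
    apply bcTr_injective k
    rw [bcTr_mul, bcTr_bcUn, hc, ← MonObj.comp_mul, inv_mul_cancel, MonObj.comp_one, bcTr_one]
  have h2 := congrArg (fun w => dFn (w ≫ (eh e).hom) m) h1
  rw [eh_mul, d_mul, hx', _root_.mul_one] at h2
  rw [h2, ← pow_zero (1 : Y ⟶ Red.bc k H), eh_pow, dFn_pow, zero_smul, d_zero]

theorem good_glue {T : Scheme.{u}} (𝒰 : Scheme.OpenCover.{u} T) (x : T ⟶ H.left)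
    (h : ∀ i, Good (𝒰.f i ≫ x)) : Good x :=
  good_of_family x fun p =>
    ⟨_, 𝒰.f (𝒰.idx p), inferInstance, 𝒰.covers p, h _⟩

omit [GrpObj H] in
/-- Every point of a torus is, on a flat family, divisible. -/
theorem exists_roots_family {B : Scheme.{u}} (R : Over B) [GrpObj R] (hR : Red.IsTorus R) (p : R.left) :
    ∃ (X : Scheme.{u}) (m : X ⟶ R.left), Flat m ∧ (∃ q, m q = p) ∧ ∀ n : ℕ, 0 < n → Roots R m n := by
  obtain ⟨S', f, hf, hfs, -, hl⟩ := hR
  obtain ⟨s', hs'⟩ := f.surjective (R.hom p)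
  obtain ⟨U, hU, r, ⟨e⟩⟩ := hl s'
  let k : (U : Scheme.{u}) ⟶ B := U.ι ≫ f
  obtain ⟨w, hw, -⟩ := Scheme.Pullback.exists_preimage_pullback (f := R.hom) (g := k) p ⟨s', hU⟩
    (show R.hom p = k ⟨s', hU⟩ from hs'.symm)
  refine ⟨_, pullback.fst R.hom k, inferInstance, ⟨w, hw⟩, fun n hn => ?_⟩
  have h := roots_of_kills e (AddGroup.fg_iff_addMonoid_fg.mpr inferInstance) (𝟙 (Red.bc k R)) (fun m hm => by
    obtain ⟨a, ha, ham⟩ := isOfFinAddOrder_iff_nsmul_eq_zero.mp hm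
    have : m = 0 := funext fun i => by
      have hi := congrFun ham i
      simp only [Pi.smul_apply, Pi.zero_apply, smul_eq_zero] at hi
      exact hi.resolve_left ha.ne'
    rw [this, d_zero]) hn
  rw [bcTr_left, CategoryTheory.Over.id_left, Category.id_comp] at h
  exact h

/-- A homomorphism from a torus lands in the good locus. -/
theorem good_of_torus {B : Scheme.{u}} (R : Over B) [GrpObj R] (hR : Red.IsTorus R) (a : R.left ⟶ H.left)
    (hpush : ∀ (n : ℕ) (Y : Over B) (y : Y ⟶ R), ∃ (h : Y.left ⟶ S) (y' : Over.mk h ⟶ H),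
      (y' ^ n).left = (y ^ n).left ≫ a) : Good a := by
  refine good_of_family a fun p => ?_
  obtain ⟨X, m, hm, hp, hroots⟩ := exists_roots_family R hR p
  refine ⟨X, m, hm, hp, good_of_roots _ fun n hn => ?_⟩
  obtain ⟨Y, y, c, hc, hcs, hy⟩ := hroots n hn
  obtain ⟨h, y', hy'⟩ := hpush n Y y
  exact ⟨Over.mk h, y', c, hc, hcs, by rw [hy', hy, Category.assoc]⟩

end Groth.Agent.MaxTorMT
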