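import Groth.Agent.MaxTorMT.Basic
import Groth.Agent.DiagRig.ImmDesc
import Groth.Agent.GrpScheme.ClosedRep
import Groth.Agent.GrpScheme.SubgroupObj

/-! The maximal torus of a group of multiplicative type. -/

set_option autoImplicit false

universe u

open CategoryTheory MonoidalCategory CartesianMonoidalCategory MonObj GrpObj AlgebraicGeometry Limits
open Groth.Agent.RedPts Groth.Agent.DiagRig

noncomputable section

namespace Groth.Agent.MaxTorMT

set_option backward.isDefEq.respectTransparency.types false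
set_option maxHeartbeats 1000000

variable {S : Scheme.{u}} {H : Over S} [GrpObj H]

/-- Over a chart, the good locus of an affine open is given by an ideal. -/
theorem exists_ideal {U : Scheme.{u}} {k : U ⟶ S} {M : Type} [AddCommGroup M]
    (e : Grp.mk (Red.bc k H) ≅ Grp.mk (Red.DS U M)) (hM : AddGroup.FG M) {A : CommRingCat.{u}}
    (a : Spec A ⟶ H.left) (u : Spec A ⟶ U) (w : a ≫ H.hom = u ≫ k) :
    ∃ I : Ideal A, ∀ (C : CommRingCat.{u}) (φ : A ⟶ C), Good (Spec.map φ ≫ a) ↔ I ≤ RingHom.ker φ.hom := by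
  let Y₀ : Over U := Over.mk u
  let x₀ : (Over.map k).obj Y₀ ⟶ H := Over.homMk a w
  let z₀ := bcUn k x₀
  let t : M → A := fun m => (Scheme.ΓSpecIso A).hom (dFn (z₀ ≫ (eh e).hom) m)
  refine ⟨Ideal.span {c | ∃ m, IsOfFinAddOrder m ∧ c = t m - 1}, fun C φ => ?_⟩
  let d : Over.mk (Spec.map φ ≫ u) ⟶ Y₀ := Over.homMk (Spec.map φ)
  have hd : (bcTr k (d ≫ z₀)).left = Spec.map φ ≫ a := by
    rw [bcTr_comp, bcTr_bcUn]
    rfl
  have hnat : ∀ m, (Scheme.ΓSpecIso C).hom (dFn ((d ≫ z₀) ≫ (eh e).hom) m) = φ (t m) := fun m => by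
    rw [Category.assoc, d_comp]
    exact congr($(Scheme.ΓSpecIso_naturality φ) (dFn (z₀ ≫ (eh e).hom) m))
  have h1 : Good (Spec.map φ ≫ a) ↔ Kills e (d ≫ z₀) :=
    ⟨fun h => h U k M _ hM e _ (d ≫ z₀) (𝟙 _) (hd.trans (Category.id_comp _).symm),
      fun h => hd ▸ good_of_kills e hM h⟩
  rw [h1, Ideal.span_le]
  constructor
  · rintro h c ⟨m, hm, rfl⟩
    show φ.hom (t m - 1) = 0
    rw [map_sub, map_one, ← hnat, h m hm, map_one, sub_self]
  · intro h m hm
    have h0 : φ.hom (t m - 1) = 0 := h ⟨m, hm, rfl⟩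
    rw [map_sub, map_one, sub_eq_zero] at h0
    refine (Scheme.ΓSpecIso C).commRingCatIsoToRingEquiv.injective ?_
    exact ((hnat m).trans h0).trans (map_one _).symm

/-- The good locus is a closed subscheme. -/
theorem exists_closed (hH : SGA3x.IsMultTypeFT H) :
    ∃ (Z : Scheme.{u}) (io : Z ⟶ H.left), IsClosedImmersion io ∧ Good io ∧
      ∀ (X : Scheme.{u}) (a : X ⟶ H.left), Good a → ∃ l, l ≫ io = a := by
  obtain ⟨S', f, hf, hfs, hcov, hloc⟩ := hH
  let q : pullback H.hom f ⟶ H.left := pullback.fst _ _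
  let pr : pullback H.hom f ⟶ S' := pullback.snd _ _
  have hgood : GrpScheme.ClosedRep.IsGood (X := pullback H.hom f) (fun T x => Good (x ≫ q)) :=
    { comp := fun g x hx => by rw [Category.assoc]; exact hx.comp g
      glue := fun 𝒰 x hx => good_glue 𝒰 _ fun i => by rw [← Category.assoc]; exact hx i }
  obtain ⟨Z', z', hz', hZ'⟩ := GrpScheme.ClosedRep.exists_closed hgood fun W x hx => by
    obtain ⟨U, hU, M, _, hM, ⟨e⟩⟩ := hloc (pr x)
    obtain ⟨g, hg, hxg⟩ := W.2.exists_basicOpen_le (V := pr ⁻¹ᵁ U) ⟨x, hU⟩ hx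
    let W' := (pullback H.hom f).affineBasicOpen g
    have hr : Set.range (W'.2.fromSpec ≫ pr).base ⊆ Set.range U.ι.base := by
      rintro _ ⟨y, rfl⟩
      rw [Scheme.Opens.range_ι]
      exact hg (W'.2.range_fromSpec.le ⟨y, rfl⟩)
    obtain ⟨I, hI⟩ := exists_ideal e hM (W'.2.fromSpec ≫ q) (IsOpenImmersion.lift U.ι _ hr) (by
      rw [Category.assoc, ← Category.assoc (IsOpenImmersion.lift U.ι _ hr), IsOpenImmersion.lift_fac,
        Category.assoc]
      exact congrArg (W'.2.fromSpec ≫ ·) pullback.condition)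
    refine ⟨g, hxg, I, fun C φ => ?_⟩
    show Good ((Spec.map φ ≫ W'.2.fromSpec) ≫ q) ↔ _
    rw [Category.assoc]
    exact hI C φ
  have hmem := singleton_mem_fpqc q (cov_fst H.hom f hcov)
  obtain ⟨J, hJ⟩ := GrpdLib.FamDescent.exists_comap_eq hmem (fun _ => z'.ker) (by
    intro T i j x y h
    suffices key : ∀ x y : T ⟶ pullback H.hom f, x ≫ q = y ≫ q → z'.ker.comap y ≤ z'.ker.comap x from
      le_antisymm (key y x h.symm) (key x y h)
    intro x y h
    obtain ⟨l, hl⟩ := (hZ' _ (pullback.fst x z' ≫ y)).mp (by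
      show Good ((pullback.fst x z' ≫ y) ≫ q)
      rw [Category.assoc, ← h, ← Category.assoc, pullback.condition]
      exact (hZ' _ _).mpr ⟨pullback.snd x z', rfl⟩)
    rw [← Scheme.IdealSheafData.ker_fst_of_isClosedImmersion, ← Scheme.IdealSheafData.ker_fst_of_isClosedImmersion]
    have e : pullback.lift (pullback.fst x z') l hl.symm ≫ pullback.fst y z' = pullback.fst x z' :=
      pullback.lift_fst _ _ _
    conv_rhs => rw [← e]
    exact Scheme.Hom.le_ker_comp _ _)
  let P := pullback.fst q J.subschemeι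
  have hker : P.ker = z'.ker := hJ PUnit.unit
  have hsnd : Surjective (pullback.snd q J.subschemeι) := inferInstance
  refine ⟨J.subscheme, J.subschemeι, inferInstance, good_of_family _ fun p => ?_, fun X a ha => ?_⟩
  · obtain ⟨w, hw⟩ := hsnd.surj p
    refine ⟨_, pullback.snd q J.subschemeι, inferInstance, ⟨w, hw⟩, ?_⟩
    rw [← pullback.condition]
    exact (hZ' _ _).mpr ⟨IsClosedImmersion.lift z' P hker.ge, IsClosedImmersion.lift_fac _ _ _⟩
  · refine WeilLocus.exists_lift_of_pointwise J.subschemeι a fun p => ?_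
    obtain ⟨l, hl⟩ := (hZ' _ (pullback.snd a q)).mp (by
      show Good (pullback.snd a q ≫ q)
      rw [← pullback.condition]
      exact ha.comp _)
    obtain ⟨v, hv⟩ := (pullback.fst a q).surjective p
    refine ⟨_, pullback.fst a q, l ≫ IsClosedImmersion.lift P z' hker.le ≫ pullback.snd q J.subschemeι,
      inferInstance, ⟨v, hv⟩, ?_⟩
    simp only [Category.assoc]
    rw [← pullback.condition, ← Category.assoc (IsClosedImmersion.lift P z' hker.le),
      IsClosedImmersion.lift_fac, ← Category.assoc, hl, ← pullback.condition]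

/-- A point of a chart killed by torsion factors through the free quotient. -/
theorem exists_factor {U : Scheme.{u}} {k : U ⟶ S} {M : Type} [AddCommGroup M]
    (e : Grp.mk (Red.bc k H) ≅ Grp.mk (Red.DS U M)) {r : ℕ} (π : M →+ (Fin r → ℤ)) (s : (Fin r → ℤ) →+ M)
    (hs : ∀ x, π (s x) = x) (hk : ∀ m, π m = 0 → IsOfFinAddOrder m) {Y : Over U} (z : Y ⟶ Red.bc k H)
    (hz : Kills e z) : ∃ w : Y ⟶ Red.DS U (Fin r → ℤ), w ≫ Red.DSmap U π = z ≫ (eh e).hom := by
  obtain ⟨w, hw⟩ := d_surjective (S := U) (X := Y)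
    { toFun := fun x : Multiplicative (Fin r → ℤ) => dFn (z ≫ (eh e).hom) (s x.toAdd)
      map_one' := by simp [d_zero]
      map_mul' := fun a b => by simp [d_add] }
  refine ⟨w, d_ext fun m => ?_⟩
  rw [DSmap_fn]
  refine (hw (π m)).trans ?_
  show dFn (z ≫ (eh e).hom) (s (π m)) = _
  have h2 := d_add (z ≫ (eh e).hom) (s (π m)) (m - s (π m))
  rw [add_sub_cancel, hz (m - s (π m)) (hk (m - s (π m)) (by rw [map_sub, hs, sub_self])), _root_.mul_one] at h2
  exact h2.symm

/-- The good locus is split with free character group over a chart. -/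
theorem nonempty_split {T : Over S} [GrpObj T] (i : T ⟶ H) [IsMonHom i] [Mono i] (hi : Good i.left)
    (hlift : ∀ (X : Over S) (x : X ⟶ H), Good x.left → ∃ l, l ≫ i = x)
    {U : Scheme.{u}} (k : U ⟶ S) {M : Type} [AddCommGroup M] (hM : AddGroup.FG M)
    (e : Grp.mk (Red.bc k H) ≅ Grp.mk (Red.DS U M)) :
    ∃ r : ℕ, Red.IsSplitTorusWith (Fin r → ℤ) (Red.bc k T) := by
  obtain ⟨r, π, s, hs, hk⟩ := exists_split M hM
  let h : Red.DS U (Fin r → ℤ) ⟶ Red.bc k H := Red.DSmap U π ≫ (eh e).inv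
  have hh : Kills e h := fun m hm => by
    obtain ⟨n, hn, hnm⟩ := isOfFinAddOrder_iff_nsmul_eq_zero.mp hm
    have hπm : π m = 0 := funext fun j => by
      have h0 := congrFun (show n • π m = 0 by rw [← map_nsmul, hnm, map_zero]) j
      simp only [Pi.smul_apply, Pi.zero_apply, smul_eq_zero] at h0
      exact h0.resolve_left hn.ne'
    rw [Category.assoc, Iso.inv_hom_id, Category.comp_id, ← Category.id_comp (Red.DSmap U π), DSmap_fn, hπm,
      d_zero]
  obtain ⟨l, hl⟩ := hlift _ (bcTr k h) (good_of_kills e hM hh)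
  let a : Red.DS U (Fin r → ℤ) ⟶ Red.bc k T := bcUn k l
  let ib := (Over.pullback k).map i
  have ha : a ≫ ib = h := bcTr_injective k (by rw [bcTr_map, bcTr_bcUn, hl])
  have hib : Kills e ib := by
    refine hi U k M _ hM e _ ib (bcTr k (𝟙 (Red.bc k T))).left ?_
    rw [← Category.id_comp ib, bcTr_map]
    rfl
  obtain ⟨b, hb⟩ := exists_factor e π s hs hk ib hib
  have hbh : b ≫ h = ib := by rw [← Category.assoc, hb, Category.assoc, Iso.hom_inv_id, Category.comp_id]
  have : IsMonHom ib := isMonHom_bcMap k i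
  have : Mono ib := inferInstance
  have : Mono (Red.DSmap U π) := by
    have : Mono (Red.DSmap U π).left := DSHom.mono_DSmap π fun x => ⟨s x, hs x⟩
    exact Over.mono_of_mono_left _
  have hmh : Mono h := mono_comp _ _
  let E : Red.bc k T ≅ Red.DS U (Fin r → ℤ) :=
    ⟨b, a, by rw [← cancel_mono ib, Category.assoc, ha, hbh, Category.id_comp],
      by rw [← cancel_mono h, Category.assoc, hbh, ha, Category.id_comp]⟩
  have hmul : ∀ (Y : Over U) (x y : Y ⟶ Red.DS U (Fin r → ℤ)), (x * y) ≫ h = (x ≫ h) * (y ≫ h) := fun Y x y => by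
    rw [← cancel_mono (eh e).hom, eh_mul]
    simp only [h, Category.assoc, Iso.inv_hom_id, Category.comp_id]
    refine d_ext fun m => ?_
    rw [DSmap_fn, d_mul, d_mul, DSmap_fn, DSmap_fn]
  have : IsMonHom E.hom := isMonHom_of_pts _ fun Y x y => by
    show (x * y) ≫ b = (x ≫ b) * (y ≫ b)
    rw [← cancel_mono h, hmul, Category.assoc, Category.assoc, Category.assoc, hbh, MonObj.mul_comp]
  exact ⟨r, ⟨Grp.mkIso' E⟩⟩

/-- A group of multiplicative type has a greatest torus. -/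
theorem exists_greatest (hH : SGA3x.IsMultTypeFT H) :
    ∃ (T : Over S) (_ : GrpObj T) (i : T ⟶ H), IsMonHom i ∧ Mono i ∧ Red.IsTorus T ∧
      ∀ (X : Over S) (x : X ⟶ H), Good x.left → ∃ l, l ≫ i = x := by
  obtain ⟨Z, io, hio, hgood, hlift⟩ := exists_closed hH
  let T : Over S := Over.mk (io ≫ H.hom)
  let i : T ⟶ H := Over.homMk io
  have : Mono i := by
    have : Mono i.left := inferInstanceAs (Mono io)
    exact Over.mono_of_mono_left i
  have hl : ∀ (X : Over S) (x : X ⟶ H), Good x.left → ∃ l, l ≫ i = x := fun X x hx => by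
    obtain ⟨l, hl⟩ := hlift _ _ hx
    exact ⟨Over.homMk l (by
      show l ≫ io ≫ H.hom = X.hom
      rw [← Category.assoc, hl, Over.w]), Over.OverMorphism.ext hl⟩
  have hi : Good i.left := hgood
  have hfst : ∀ (X : Over S) (g : X ⟶ T), Good (g ≫ i).left := fun X g => hi.comp g.left
  obtain ⟨inst, hmon⟩ := GrpScheme.SubgroupObj.exists_grpObj i
    (hl _ _ (by
      rw [show (i ⊗ₘ i) ≫ μ[H] = (fst T T ≫ i) * (snd T T ≫ i) by
        rw [Hom.mul_def]; congr 1]
      exact (hfst _ _).mul (hfst _ _)))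
    (hl _ _ (by
      rw [show η[H] = (1 : 𝟙_ (Over S) ⟶ H) by rw [Hom.one_def, toUnit_unique (toUnit _) (𝟙 _), Category.id_comp]]
      exact good_one))
    (hl _ _ (by rw [← Hom.inv_def]; exact hi.inv))
  refine ⟨T, inst, i, hmon, inferInstance, ?_, hl⟩
  obtain ⟨S', f, hf, hfs, hcov, hloc⟩ := hH
  refine ⟨S', f, hf, hfs, hcov, fun s' => ?_⟩
  obtain ⟨U, hU, M, _, hM, ⟨e⟩⟩ := hloc s'
  exact ⟨U, hU, nonempty_split i hi hl (U.ι ≫ f) hM e⟩

theorem good_bcTr_of_torus {B : Scheme.{u}} (g : B ⟶ S) (R : Over B) [GrpObj R] (j : R ⟶ Red.bc g H) [IsMonHom j]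
    (hR : Red.IsTorus R) : Good (bcTr g j).left := by
  refine good_of_torus R hR _ fun n Y y => ⟨_, bcTr g (y ≫ j), ?_⟩
  show ((bcTr g (y ≫ j)) ^ n).left = _
  rw [← bcTr_pow, ← pow_comp, bcTr_comp]
  rfl

theorem good_hom_of_torus (R : Over S) [GrpObj R] (j : R ⟶ H) [IsMonHom j] (hR : Red.IsTorus R) : Good j.left := by
  refine good_of_torus R hR _ fun n Y y => ⟨Y.hom, y ≫ j, ?_⟩
  show ((y ≫ j) ^ n).left = _
  rw [← pow_comp]
  rfl

/-- The greatest torus is maximal. -/
theorem exists_maximal (hH : SGA3x.IsMultTypeFT H) :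
    ∃ (T : Over S) (_ : GrpObj T) (i : T ⟶ H), Red.IsMaximalTorus i ∧
      ∀ (R : Over S) [GrpObj R] (j : R ⟶ H) [IsMonHom j] [Mono j], Red.IsTorus R → ∃ f : R ⟶ T, f ≫ i = j := by
  obtain ⟨T, inst, i, hmon, hmono, htor, hl⟩ := exists_greatest hH
  refine ⟨T, inst, i, ⟨hmon, hmono, htor, ?_⟩, fun R _ j _ _ hR => hl R j (good_hom_of_torus R j hR)⟩
  intro s T' _ j _ _ f hT' hf
  obtain ⟨l, hli⟩ := hl _ _ (good_bcTr_of_torus (Red.geomPt s) T' j hT')
  let g := bcUn (Red.geomPt s) l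
  have hg : g ≫ (Over.pullback (Red.geomPt s)).map i = j :=
    bcTr_injective _ (by rw [bcTr_map, bcTr_bcUn, hli])
  exact ⟨g, by rw [← cancel_mono ((Over.pullback (Red.geomPt s)).map i), Category.assoc, hg, hf, Category.id_comp],
    by rw [← cancel_mono j, Category.assoc, hf, hg, Category.id_comp]⟩

end Groth.Agent.MaxTorMT
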